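import Mathlib.AlgebraicGeometry.IdealSheaf.Subscheme
import Mathlib.AlgebraicGeometry.Morphisms.ClosedImmersion
import Mathlib.AlgebraicGeometry.Morphisms.QuasiCompact
import Mathlib.RingTheory.Nilpotent.Basic

/-!
# Closed immersions and nilpotent thickenings of order two
-/

universe u

set_option backward.isDefEq.respectTransparency false
set_option backward.isDefEq.respectTransparency.types false

open CategoryTheory AlgebraicGeometry TopologicalSpace Opposite

namespace Groth.Agent.Small12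

/-- Surjectivity modulo the square of a nilpotent ideal implies surjectivity. -/
theorem surjective_of_surjective_mod_sq {A B : Type u} [CommRing A] [CommRing B] (φ : A →+* B)
    (J : Ideal B) (hJ : IsNilpotent J) (h : ∀ b, ∃ a, b - φ a ∈ J ^ 2) : Function.Surjective φ := by
  have hstep : ∀ n, 1 ≤ n → ∀ x ∈ J ^ n, ∃ a, φ a ∈ J ^ n ∧ x - φ a ∈ J ^ (n + 1) := by
    intro n hn
    induction n, hn using Nat.le_induction with
    | base =>
      intro x hx
      obtain ⟨a, ha⟩ := h x
      refine ⟨a, ?_, ha⟩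
      have h' : x - φ a ∈ J ^ 1 := Ideal.pow_le_pow_right one_le_two ha
      simpa using Ideal.sub_mem _ hx h'
    | succ n hn ih =>
      intro x hx
      rw [pow_succ] at hx
      induction hx using Submodule.mul_induction_on' with
      | mem_mul_mem y hy z hz =>
        obtain ⟨a, ha₁, ha₂⟩ := ih y hy
        obtain ⟨c, hc⟩ := h z
        have hc₁ : φ c ∈ J := by
          simpa using Ideal.sub_mem _ hz (Ideal.pow_le_self (n := 2) (by omega) hc)
        refine ⟨a * c, ?_, ?_⟩
        · rw [map_mul, pow_succ]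
          exact Ideal.mul_mem_mul ha₁ hc₁
        · have e : y * z - φ (a * c) = (y - φ a) * z + φ a * (z - φ c) := by rw [map_mul]; ring
          rw [e]
          refine Ideal.add_mem _ ?_ ?_
          · rw [pow_succ]
            exact Ideal.mul_mem_mul ha₂ hz
          · rw [show n + 1 + 1 = n + 2 from rfl, pow_add]
            exact Ideal.mul_mem_mul ha₁ hc
      | add y hy z hz h₁ h₂ =>
        obtain ⟨a, ha₁, ha₂⟩ := h₁
        obtain ⟨c, hc₁, hc₂⟩ := h₂
        refine ⟨a + c, by rw [map_add]; exact Ideal.add_mem _ ha₁ hc₁, ?_⟩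
        rw [map_add, add_sub_add_comm]
        exact Ideal.add_mem _ ha₂ hc₂
  intro b
  obtain ⟨N, hN⟩ := hJ
  have : ∀ n, ∃ a, b - φ a ∈ J ^ (n + 1) := by
    intro n
    induction n with
    | zero =>
      obtain ⟨a, ha⟩ := h b
      exact ⟨a, Ideal.pow_le_pow_right (by omega) ha⟩
    | succ n ih =>
      obtain ⟨a, ha⟩ := ih
      obtain ⟨c, -, hc⟩ := hstep (n + 1) (by omega) _ ha
      exact ⟨a + c, by rwa [map_add, ← sub_sub]⟩
  obtain ⟨a, ha⟩ := this N
  rw [pow_succ, hN, zero_mul] at ha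
  exact ⟨a, (sub_eq_zero.1 (by simpa using ha)).symm⟩

/-- A morphism which is a closed immersion on the subscheme of a nilpotent `I²` is a closed immersion. -/
theorem isClosedImmersion_of_sq {X Y : Scheme.{u}} (f : X ⟶ Y) (I : X.IdealSheafData)
    (hI : IsNilpotent I) (h : IsClosedImmersion ((I ^ 2).subschemeι ≫ f)) : IsClosedImmersion f := by
  obtain ⟨N, hN⟩ := hI
  have hideal : ∀ U : X.affineOpens, I.ideal U ^ N = ⊥ := fun U => by
    have e : I ^ N = ⊥ := hN.trans (Scheme.IdealSheafData.zero_eq_bot)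
    have := congrArg (fun K : X.IdealSheafData => K.ideal U) e
    simpa using this
  let ι := (I ^ 2).subschemeι
  have hsurj : Function.Surjective ι := by
    intro x
    obtain ⟨U, hU, hxU, -⟩ := exists_isAffineOpen_mem_and_subset (x := x) (U := ⊤) trivial
    have : x ∈ (I ^ 2).support := by
      rw [Scheme.IdealSheafData.mem_support_iff_of_mem (U := ⟨U, hU⟩) hxU, Scheme.mem_zeroLocus_iff]
      intro s hs
      have hnil : IsNilpotent s := by
        refine ⟨N, ?_⟩
        have hs' : s ∈ I.ideal ⟨U, hU⟩ := by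
          rw [Scheme.IdealSheafData.ideal_pow, Pi.pow_apply] at hs
          exact Ideal.pow_le_self two_ne_zero hs
        simpa [hideal] using Ideal.pow_mem_pow hs' N
      rw [show X.basicOpen s = ⊥ from X.toLocallyRingedSpace.basicOpen_eq_bot_of_isNilpotent _ s hnil]
      exact fun h => h
    rw [← SetLike.mem_coe, ← Scheme.IdealSheafData.range_subschemeι] at this
    exact this
  have hcl : Topology.IsClosedEmbedding f := by
    have hι : IsHomeomorph ι :=
      ⟨ι.continuous, (Topology.IsClosedEmbedding.isClosedMap ι.isClosedEmbedding) |> fun hc => ?_,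
        ι.isClosedEmbedding.injective, hsurj⟩
    · let e := hι.homeomorph
      have := ((ι ≫ f).isClosedEmbedding).comp e.symm.isClosedEmbedding
      refine (congrArg Topology.IsClosedEmbedding (funext fun x => ?_)).mp this
      show (ι ≫ f) (e.symm x) = f x
      rw [Scheme.Hom.comp_apply]
      exact congrArg f (e.apply_symm_apply x)
    · exact (Equiv.ofBijective ι ⟨ι.isClosedEmbedding.injective, hsurj⟩).toHomeomorphOfContinuousClosed
        ι.continuous hc |>.isOpenMap
  refine { isClosedEmbedding := hcl, stalkMap_surjective := fun x => ?_ }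
  obtain ⟨z, rfl⟩ := hsurj x
  obtain ⟨U, hU, hxU, -⟩ := exists_isAffineOpen_mem_and_subset (x := ι z) (U := ⊤) trivial
  let germU := (X.presheaf.germ U (ι z) hxU).hom
  refine surjective_of_surjective_mod_sq (f.stalkMap (ι z)).hom ((I.ideal ⟨U, hU⟩).map germU)
    ⟨N, by rw [← Ideal.map_pow, hideal, Ideal.map_bot]; rfl⟩ fun b => ?_
  obtain ⟨a, ha⟩ := (ι ≫ f).stalkMap_surjective z ((ι.stalkMap z) b)
  rw [Scheme.Hom.stalkMap_comp] at ha
  refine ⟨a, ?_⟩
  have hker : ι.stalkMap z (b - f.stalkMap (ι z) a) = 0 := by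
    rw [map_sub]
    exact sub_eq_zero.2 ha.symm
  rw [← Ideal.map_pow]
  letI := X.presheaf.algebra_section_stalk (U := U) ⟨ι z, hxU⟩
  have := hU.isLocalization_stalk ⟨ι z, hxU⟩
  obtain ⟨⟨c, t⟩, hct⟩ := IsLocalization.surj (hU.primeIdealOf ⟨ι z, hxU⟩).asIdeal.primeCompl
    (b - f.stalkMap (ι z) a)
  have hu : IsUnit (germU t.1) := IsLocalization.map_units (X.presheaf.stalk (ι z)) t
  refine (Ideal.mul_unit_mem_iff_mem _ hu).1 ?_
  change (b - f.stalkMap (ι z) a) * germU t.1 = germU c at hct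
  change (b - f.stalkMap (ι z) a) * germU t.1 ∈ _
  rw [hct]
  have hc0 : ι.stalkMap z (germU c) = 0 := by rw [← hct, map_mul, hker, zero_mul]
  rw [Scheme.Hom.germ_stalkMap_apply] at hc0
  obtain ⟨W, hzW, i₁, _, hW⟩ := TopCat.Presheaf.germ_eq (F := (I ^ 2).subscheme.presheaf) z hxU
    (show z ∈ ι ⁻¹ᵁ U from hxU) (ι.app U c) 0 (hc0.trans (map_zero _).symm)
  rw [map_zero] at hW
  obtain ⟨W', hW'⟩ := ι.isClosedEmbedding.isInducing.isOpen_iff.1 W.2
  obtain ⟨g, hgW, hzg⟩ := hU.exists_basicOpen_le (V := ⟨W', hW'.1⟩) ⟨ι z, (Set.ext_iff.1 hW'.2 z).2 hzW⟩ hxU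
  have hle : ι ⁻¹ᵁ X.basicOpen g ≤ W := fun y hy => (Set.ext_iff.1 hW'.2 y).1 (hgW hy)
  let V : X.affineOpens := X.affineBasicOpen (U := ⟨U, hU⟩) g
  have hmem : (X.presheaf.map (homOfLE (X.basicOpen_le g)).op).hom c ∈ (I ^ 2).ideal V := by
    rw [← Scheme.IdealSheafData.ker_subschemeι_app, RingHom.mem_ker]
    refine (CategoryTheory.NatTrans.naturality_apply ι.c (homOfLE (X.basicOpen_le g)).op c).trans ?_
    show (I ^ 2).subscheme.presheaf.map (homOfLE fun y hy => (X.basicOpen_le g) hy).op (ι.app U c) = 0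
    rw [show (homOfLE fun y hy => (X.basicOpen_le g) hy : ι ⁻¹ᵁ X.basicOpen g ⟶ ι ⁻¹ᵁ U) =
        homOfLE hle ≫ i₁ from Subsingleton.elim _ _, op_comp, Functor.map_comp,
      ConcreteCategory.comp_apply, hW, map_zero]
  rw [Scheme.IdealSheafData.ideal_pow, Pi.pow_apply] at hmem
  have hmap : I.ideal V = (I.ideal ⟨U, hU⟩).map (X.presheaf.map (homOfLE (X.basicOpen_le g)).op).hom :=
    (I.map_ideal (U := V) (V := ⟨U, hU⟩) (X.basicOpen_le g)).symm
  rw [hmap, ← Ideal.map_pow] at hmem
  have h2 := Ideal.mem_map_of_mem (X.presheaf.germ (X.basicOpen g) (ι z) hzg).hom hmem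
  rw [Ideal.map_map, ← CommRingCat.hom_comp, TopCat.Presheaf.germ_res] at h2
  simpa only [← ConcreteCategory.comp_apply, TopCat.Presheaf.germ_res] using h2

end Groth.Agent.Small12
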